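import Mathlib

/-!
# A `π`-supplement containing a Sylow subgroup

If `C` is normal in `G` and contains every `π'`-element, every Sylow `p`-subgroup (`p ∈ π`) lies in a
`π`-subgroup `K` with `C ⊔ K = ⊤`.
-/

set_option autoImplicit false
set_option linter.unusedSectionVars false

namespace Cfsg.Agent.Lib.BC77.DPiHom

/-- Every prime divisor lies in `π`. -/
def PiNum (π : Set ℕ) (n : ℕ) : Prop := ∀ q : ℕ, q.Prime → q ∣ n → q ∈ π

universe u

open Subgroup in
theorem exists_pi_supplement_aux (π : Set ℕ) (p : ℕ) [Fact p.Prime] (hp : p ∈ π) :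
    ∀ (n : ℕ) (G : Type u) [Group G] [Finite G], Nat.card G = n → ∀ (C : Subgroup G), C.Normal →
      (∀ g : G, (∀ q : ℕ, q.Prime → q ∣ orderOf g → q ∉ π) → g ∈ C) → ∀ S : Sylow p G,
      ∃ K : Subgroup G, PiNum π (Nat.card K) ∧ (S : Subgroup G) ≤ K ∧ C ⊔ K = ⊤ := by
  intro n
  induction n using Nat.strong_induction_on with
  | _ n ih =>
  intro G _ _ hn C hC hπ S
  classical
  by_cases hex : ∃ Y : Subgroup G, Y ≠ ⊤ ∧ (S : Subgroup G) ≤ Y ∧ C ⊔ Y = ⊤
  · obtain ⟨Y, hY, hSY, hCY⟩ := hex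
    have hlt : Nat.card Y < n := by
      rw [← hn]
      refine lt_of_le_of_ne (card_le_card_group Y) fun e => hY (eq_top_of_card_eq Y e)
    obtain ⟨K, hK, hSK, hCK⟩ := ih _ hlt Y rfl (C.subgroupOf Y) (Subgroup.normal_subgroupOf)
      (fun g hg => by
        rw [mem_subgroupOf]
        exact hπ g (by rwa [Subgroup.orderOf_coe]))
      (S.subtype hSY)
    refine ⟨K.map Y.subtype, ?_, ?_, ?_⟩
    · rwa [card_map_of_injective Y.subtype_injective]
    · intro s hs
      exact ⟨⟨s, hSY hs⟩, hSK (show (⟨s, hSY hs⟩ : Y) ∈ (S : Subgroup G).subgroupOf Y from hs), rfl⟩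
    · rw [eq_top_iff, ← hCY]
      refine sup_le le_sup_left fun y hy => ?_
      have : (⟨y, hy⟩ : Y) ∈ C.subgroupOf Y ⊔ K := hCK ▸ mem_top _
      have h2 := mem_map_of_mem Y.subtype this
      rw [Subgroup.map_sup] at h2
      exact sup_le_sup (map_le_iff_le_comap.mpr fun z hz => mem_subgroupOf.mp hz) le_rfl h2
  simp only [not_exists, not_and] at hex
  have hmin : ∀ Y : Subgroup G, (S : Subgroup G) ≤ Y → C ⊔ Y = ⊤ → Y = ⊤ := fun Y h1 h2 =>
    by_contra fun hY => hex Y hY h1 h2
  refine ⟨⊤, ?_, le_top, by simp⟩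
  rw [card_top]
  intro r hr hrG
  by_contra hrπ
  haveI : Fact r.Prime := ⟨hr⟩
  have hrp : r ≠ p := fun e => hrπ (e ▸ hp)
  -- the Sylow `p`-subgroup of `C` is normal
  set D : Subgroup G := (S : Subgroup G) ⊓ C with hD
  have hDp : IsPGroup p D := S.isPGroup'.to_le inf_le_left
  have hDidx : ¬ p ∣ D.relIndex C := by
    intro hdvd
    apply S.not_dvd_index
    have e1 : D.relIndex (S : Subgroup G) * (S : Subgroup G).index = D.relIndex C * C.index := by
      rw [relIndex_mul_index (inf_le_left : D ≤ (S : Subgroup G)),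
        relIndex_mul_index (inf_le_right : D ≤ C)]
    rw [show D.relIndex (S : Subgroup G) = C.relIndex (S : Subgroup G) by
      rw [hD, inf_comm, inf_relIndex_right]] at e1
    obtain ⟨k, hk⟩ := relIndex_dvd_index_of_normal C (S : Subgroup G)
    rw [hk, mul_comm (C.relIndex _), mul_comm (C.relIndex _), ← mul_assoc] at e1
    have hpos : 0 < C.relIndex (S : Subgroup G) := Nat.pos_of_ne_zero (show ((C.subgroupOf (S : Subgroup G)).index) ≠ 0 from index_ne_zero_of_finite)
    rw [Nat.eq_of_mul_eq_mul_right hpos e1]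
    exact hdvd.mul_right k
  have hDN : D.Normal := by
    have hsub : IsPGroup p (D.subgroupOf C) := hDp.comap_subtype
    have hidx : ¬ p ∣ (D.subgroupOf C).index := hDidx
    have hF : (D.subgroupOf C).map C.subtype = D := map_subgroupOf_eq_of_le inf_le_right
    have key := Sylow.normalizer_sup_eq_top (hsub.toSylow hidx)
    rw [IsPGroup.toSylow_coe, hF, sup_comm] at key
    have hSN : (S : Subgroup G) ≤ Subgroup.normalizer (D : Set G) := by
      intro s hs
      refine mem_normalizer_iff.mpr fun d => ?_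
      simp only [hD, mem_inf]
      refine and_congr ⟨fun hd => mul_mem (mul_mem hs hd) (inv_mem hs), fun hd => ?_⟩
        ⟨fun hd => hC.conj_mem d hd s, fun hd => ?_⟩
      · have := mul_mem (mul_mem (inv_mem hs) hd) hs
        simpa [mul_assoc] using this
      · have := hC.conj_mem _ hd s⁻¹
        simpa [mul_assoc] using this
    exact normalizer_eq_top_iff.mp (hmin _ hSN key)
  -- pass to `G / D`
  let f := QuotientGroup.mk' D
  have hfs : Function.Surjective f := QuotientGroup.mk'_surjective D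
  set Cb := C.map f with hCb
  haveI : Cb.Normal := hC.map f hfs
  have hcomap : Cb.comap f = C := by
    rw [hCb, comap_map_eq, QuotientGroup.ker_mk']
    exact sup_eq_left.mpr inf_le_right
  have hpCb : ¬ p ∣ Nat.card Cb := by
    intro hdvd
    apply hDidx
    have h1 : Nat.card Cb = D.relIndex C := by
      rw [hCb, ← relIndex_bot_left, ← relIndex_comap]
      simp [f, MonoidHom.comap_bot, QuotientGroup.ker_mk']
    rwa [← h1]
  have hrC : ¬ r ∣ Cb.index := by
    intro hdvd
    have hidx : C.index = Cb.index := by rw [← hcomap, index_comap_of_surjective _ hfs]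
    rw [← hidx, index_eq_card] at hdvd
    obtain ⟨q, hq⟩ := exists_prime_orderOf_dvd_card' r hdvd
    obtain ⟨g, rfl⟩ := QuotientGroup.mk'_surjective C q
    obtain ⟨T⟩ : Nonempty (Sylow r (zpowers g)) := inferInstance
    have hgr : r ∣ orderOf g := hq ▸ orderOf_map_dvd (QuotientGroup.mk' C) g
    obtain ⟨k, m, hm, hkm⟩ := Nat.exists_eq_pow_mul_and_not_dvd
      (orderOf_pos g).ne' r hr.ne_one
    have hgk : g ^ m ∈ C := by
      refine hπ _ fun q' hq' hdvd' => ?_
      have : orderOf (g ^ m) ∣ r ^ k := by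
        rw [orderOf_dvd_iff_pow_eq_one, ← pow_mul, mul_comm, ← hkm, pow_orderOf_eq_one]
      rw [(Nat.prime_dvd_prime_iff_eq hq' hr).mp (hq'.dvd_of_dvd_pow (hdvd'.trans this))]
      exact hrπ
    have h1 : (QuotientGroup.mk' C g) ^ m = 1 := by
      rw [← map_pow]; exact (QuotientGroup.eq_one_iff _).mpr hgk
    exact hm (hq ▸ orderOf_dvd_of_pow_eq_one h1)
  -- a Sylow `r`-subgroup normalised by the image of `S`
  set Sb : Subgroup (G ⧸ D) := (S : Subgroup G).map f with hSb
  have hSbp : IsPGroup p Sb := S.isPGroup'.map f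
  have hcount : ¬ p ∣ Nat.card (Sylow r (G ⧸ D)) := by
    intro hdvd
    obtain ⟨R⟩ : Nonempty (Sylow r (G ⧸ D)) := inferInstance
    have hRC : (R : Subgroup (G ⧸ D)) ≤ Cb := by
      have h0 : (R : Subgroup (G ⧸ D)).map (QuotientGroup.mk' Cb) = ⊥ := by
        have hd1 := R.isPGroup'.map (QuotientGroup.mk' Cb)
        obtain ⟨i, hi⟩ := IsPGroup.iff_card.mp hd1
        rcases Nat.eq_zero_or_pos i with rfl | hi0
        · exact card_eq_one.mp (by simpa using hi)
        · exfalso
          apply hrC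
          rw [index_eq_card]
          exact ((dvd_pow_self r hi0.ne').trans hi.symm.dvd).trans (card_subgroup_dvd_card _)
      rwa [Subgroup.map_eq_bot_iff, QuotientGroup.ker_mk'] at h0
    apply hpCb
    rw [R.card_eq_index_normalizer] at hdvd
    have h2 : (Subgroup.normalizer ((R : Subgroup (G ⧸ D)) : Set (G ⧸ D))) ⊔ Cb = ⊤ :=
      Sylow.normalizer_sup_eq_top' R hRC
    set N := Subgroup.normalizer ((R : Subgroup (G ⧸ D)) : Set (G ⧸ D)) with hN
    have h3 : Cb.relIndex N = Cb.index := by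
      rw [← relIndex_top_right Cb, ← h2, relIndex_sup_right]
    have e1 : Cb.relIndex N * N.index = (N ⊓ Cb).relIndex Cb * Cb.index := by
      rw [relIndex_mul_index (inf_le_right : N ⊓ Cb ≤ Cb),
        ← relIndex_mul_index (inf_le_left : N ⊓ Cb ≤ N), inf_comm N Cb, inf_relIndex_right]
    rw [h3, mul_comm] at e1
    change p ∣ N.index at hdvd
    rw [Nat.eq_of_mul_eq_mul_right (Nat.pos_of_ne_zero index_ne_zero_of_finite) e1] at hdvd
    exact hdvd.trans (relIndex_dvd_card _ _)
  have hne : (MulAction.fixedPoints Sb (Sylow r (G ⧸ D))).Nonempty :=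
    hSbp.nonempty_fixed_point_of_prime_not_dvd_card _ hcount
  obtain ⟨R, hR⟩ := hne
  have hSR : Sb ≤ Subgroup.normalizer ((R : Subgroup (G ⧸ D)) : Set (G ⧸ D)) := fun s hs =>
    Sylow.smul_eq_iff_mem_normalizer.mp (hR ⟨s, hs⟩)
  have hRC : (R : Subgroup (G ⧸ D)) ≤ Cb := by
    have h0 : (R : Subgroup (G ⧸ D)).map (QuotientGroup.mk' Cb) = ⊥ := by
      obtain ⟨i, hi⟩ := IsPGroup.iff_card.mp (R.isPGroup'.map (QuotientGroup.mk' Cb))
      rcases Nat.eq_zero_or_pos i with rfl | hi0
      · exact card_eq_one.mp (by simpa using hi)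
      · exfalso
        apply hrC
        rw [index_eq_card]
        exact ((dvd_pow_self r hi0.ne').trans hi.symm.dvd).trans (card_subgroup_dvd_card _)
    rwa [Subgroup.map_eq_bot_iff, QuotientGroup.ker_mk'] at h0
  have hlift : ∀ V : Subgroup (G ⧸ D), Sb ≤ V → Cb ⊔ V = ⊤ → V = ⊤ := by
    intro V hSV hCV
    have h1 : (S : Subgroup G) ≤ V.comap f := map_le_iff_le_comap.mp hSV
    have h2 : C ⊔ V.comap f = ⊤ := by
      rw [← hcomap, comap_sup_eq f _ _ hfs, hCV, comap_top]
    exact comap_injective hfs ((hmin _ h1 h2).trans (comap_top f).symm)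
  haveI hRN : (R : Subgroup (G ⧸ D)).Normal := by
    refine normalizer_eq_top_iff.mp (hlift _ hSR ?_)
    rw [sup_comm]
    exact Sylow.normalizer_sup_eq_top' R hRC
  obtain ⟨W, hW⟩ := exists_right_complement'_of_coprime R.card_coprime_index
  have hWidx : ¬ p ∣ W.index := by
    rw [hW.index_eq_card]
    intro hdvd
    exact hpCb (hdvd.trans (card_dvd_of_le hRC))
  obtain ⟨T⟩ : Nonempty (Sylow p W) := inferInstance
  have hT : IsPGroup p ((T : Subgroup W).map W.subtype) := T.isPGroup'.map _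
  have hTidx : ¬ p ∣ ((T : Subgroup W).map W.subtype).index := by
    rw [index_map, ker_subtype, sup_bot_eq, range_subtype]
    exact fun hdvd => ((Fact.out : p.Prime).dvd_mul.mp hdvd).elim T.not_dvd_index hWidx
  obtain ⟨S', hS'⟩ := hSbp.exists_le_sylow
  obtain ⟨g, hg⟩ := MulAction.exists_smul_eq (G ⧸ D) (hT.toSylow hTidx) S'
  set V := W.map (MulAut.conj g).toMonoidHom with hV
  have hSV : Sb ≤ V := by
    refine hS'.trans ?_
    rw [← hg]
    intro z hz
    rw [Sylow.coe_subgroup_smul, IsPGroup.toSylow_coe] at hz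
    obtain ⟨w, hw, rfl⟩ := hz
    exact ⟨w, map_subtype_le _ hw, rfl⟩
  have hRV : (R : Subgroup (G ⧸ D)) ⊔ V = ⊤ := by
    have h1 := congrArg (Subgroup.map (MulAut.conj g).toMonoidHom) hW.sup_eq_top
    rw [Subgroup.map_sup, map_top_of_surjective _ (MulAut.conj g).surjective] at h1
    rwa [show (R : Subgroup (G ⧸ D)).map (MulAut.conj g).toMonoidHom = R from
      Normal.map_conj_eq _ g] at h1
  have hVtop := hlift V hSV (eq_top_iff.mpr (hRV ▸ sup_le_sup hRC le_rfl))
  have hWtop : W = ⊤ := by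
    apply eq_top_of_card_eq
    have := congrArg (fun A : Subgroup (G ⧸ D) => Nat.card A) hVtop
    simp only [hV, card_top] at this
    rwa [card_map_of_injective (MulAut.conj g).injective] at this
  have hR1 : Nat.card (R : Subgroup (G ⧸ D)) = 1 := by
    have hi := hW.index_eq_card
    rw [hWtop, index_top] at hi
    exact hi.symm
  apply R.not_dvd_index
  obtain ⟨i, hi⟩ := IsPGroup.iff_card.mp hDp
  have hcard := card_eq_card_quotient_mul_card_subgroup D
  have hrq : r ∣ Nat.card (G ⧸ D) := by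
    rw [hcard, hi] at hrG
    exact (hr.dvd_mul.mp hrG).resolve_right fun h =>
      hrp ((Nat.prime_dvd_prime_iff_eq hr Fact.out).mp (hr.dvd_of_dvd_pow h))
  have h3 := (R : Subgroup (G ⧸ D)).index_mul_card
  rw [hR1, mul_one] at h3
  rwa [h3]

theorem exists_pi_supplement {G : Type u} [Group G] [Finite G] (π : Set ℕ) {p : ℕ} [Fact p.Prime]
    (hp : p ∈ π) {C : Subgroup G} (hC : C.Normal)
    (hπ : ∀ g : G, (∀ q : ℕ, q.Prime → q ∣ orderOf g → q ∉ π) → g ∈ C) (S : Sylow p G) :
    ∃ K : Subgroup G, PiNum π (Nat.card K) ∧ (S : Subgroup G) ≤ K ∧ C ⊔ K = ⊤ :=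
  exists_pi_supplement_aux π p hp _ G rfl C hC hπ S

end Cfsg.Agent.Lib.BC77.DPiHom
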