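import Mathlib
import Cfsg.Agent.Lib.BC77.DPiHom.Supplement

/-!
# Fusion in the Hall subgroup of a `π`-homogeneous `D_π`-group

Any two conjugates of the Hall subgroup containing an element `a` of `H` are conjugate under `C(a)`;
consequently `H` controls the fusion of its elements.
-/

set_option autoImplicit false
set_option linter.unusedSectionVars false

namespace Cfsg.Agent.Lib.BC77.DPiHom

open Subgroup

universe u

variable {G : Type u} [Group G]

/-- The conjugate `x H x⁻¹`. -/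
def cj (x : G) (H : Subgroup G) : Subgroup G := H.map (MulAut.conj x).toMonoidHom

theorem mem_cj {x y : G} {H : Subgroup G} : y ∈ cj x H ↔ x⁻¹ * y * x ∈ H := by
  constructor
  · rintro ⟨h, hh, rfl⟩
    simpa [mul_assoc] using hh
  · intro h
    exact ⟨_, h, by simp [mul_assoc]⟩

theorem cj_mul (x y : G) (H : Subgroup G) : cj (x * y) H = cj x (cj y H) := by
  ext z; simp [mem_cj, mul_assoc]

theorem cj_one (H : Subgroup G) : cj 1 H = H := by ext z; simp [mem_cj]

theorem cj_inv_cj (x : G) (H : Subgroup G) : cj x⁻¹ (cj x H) = H := by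
  rw [← cj_mul, inv_mul_cancel, cj_one]

theorem cj_mono {x : G} {H K : Subgroup G} (h : H ≤ K) : cj x H ≤ cj x K := Subgroup.map_mono h

theorem cj_of_mem {x : G} {H : Subgroup G} (hx : x ∈ H) : cj x H = H := by
  ext z; rw [mem_cj]
  constructor
  · intro h
    have := H.mul_mem (H.mul_mem hx h) (H.inv_mem hx)
    simpa [mul_assoc] using this
  · intro h; exact H.mul_mem (H.mul_mem (H.inv_mem hx) h) hx

theorem card_cj (x : G) (H : Subgroup G) : Nat.card (cj x H) = Nat.card H :=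
  card_map_of_injective (MulAut.conj x).injective

theorem cj_eq_of_mem_normalizer {x : G} {H : Subgroup G}
    (hx : x ∈ Subgroup.normalizer (H : Set G)) : cj x H = H := by
  ext z
  rw [mem_cj]
  have := (Subgroup.mem_normalizer_iff.mp hx) (x⁻¹ * z * x)
  simpa [mul_assoc] using this

theorem mem_normalizer_of_cj_eq {x : G} {H : Subgroup G} (h : cj x H = H) :
    x ∈ Subgroup.normalizer (H : Set G) := by
  refine Subgroup.mem_normalizer_iff.mpr fun z => ?_
  have : (x * z * x⁻¹ ∈ cj x H) ↔ x * z * x⁻¹ ∈ H := by rw [h]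
  rw [← this, mem_cj]
  simp [mul_assoc]

/-- `π`-homogeneity, elementwise. -/
def Hom (π : Set ℕ) (G : Type u) [Group G] : Prop :=
  ∀ L : Subgroup G, PiNum π (Nat.card L) → ∀ n ∈ Subgroup.normalizer (L : Set G),
    (∀ q : ℕ, q.Prime → q ∣ orderOf n → q ∉ π) → n ∈ Subgroup.centralizer (L : Set G)

/-- `H` is a `π`-subgroup containing a conjugate of every `π`-subgroup. -/
structure Dom (π : Set ℕ) (H : Subgroup G) : Prop where
  piNum : PiNum π (Nat.card H)
  le_cj : ∀ L : Subgroup G, PiNum π (Nat.card L) → ∃ x : G, L ≤ cj x H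

theorem piNum_of_isPGroup [Finite G] {π : Set ℕ} {p : ℕ} [Fact p.Prime] (hp : p ∈ π)
    {P : Subgroup G} (hP : IsPGroup p P) : PiNum π (Nat.card P) := by
  obtain ⟨k, hk⟩ := IsPGroup.iff_card.mp hP
  intro q hq hdvd
  rw [hk] at hdvd
  rwa [(Nat.prime_dvd_prime_iff_eq hq Fact.out).mp (hq.dvd_of_dvd_pow hdvd)]

variable [Finite G] {π : Set ℕ} {H : Subgroup G}

theorem Dom.not_dvd_index (hD : Dom π H) {q : ℕ} (hq : q.Prime) (hqπ : q ∈ π) : ¬ q ∣ H.index := by
  haveI : Fact q.Prime := ⟨hq⟩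
  intro hdvd
  obtain ⟨P⟩ : Nonempty (Sylow q G) := inferInstance
  obtain ⟨x, hx⟩ := hD.le_cj P (piNum_of_isPGroup hqπ P.isPGroup')
  have h1 := Subgroup.index_dvd_of_le hx
  have h2 : (cj x H).index = H.index := by
    have a := (cj x H).index_mul_card
    rw [card_cj, ← H.index_mul_card] at a
    exact Nat.eq_of_mul_eq_mul_right Nat.card_pos a
  rw [h2] at h1
  exact P.not_dvd_index (hdvd.trans h1)

theorem Dom.coprime (hD : Dom π H) : Nat.Coprime (Nat.card H) H.index :=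
  Nat.coprime_of_dvd fun q hq h1 h2 => hD.not_dvd_index hq (hD.piNum q hq h1) h2

/-- Elements of the normaliser of `H` are products of elements of `H` and of its centraliser. -/
theorem Dom.normalizer_decomp (hD : Dom π H) (hh : Hom π G) {n : G}
    (hn : n ∈ Subgroup.normalizer (H : Set G)) :
    ∃ h ∈ H, ∃ z ∈ Subgroup.centralizer (H : Set G), n = h * z := by
  set N := Subgroup.normalizer (H : Set G) with hN
  haveI : (H.subgroupOf N).Normal := normal_in_normalizer
  have hb : n ^ Nat.card H ∈ Subgroup.centralizer (H : Set G) := by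
    refine hh H hD.piNum _ (pow_mem hn _) fun q hq hdvd hqπ => ?_
    have : orderOf (n ^ Nat.card H) ∣ H.index := by
      rw [orderOf_dvd_iff_pow_eq_one, ← pow_mul, mul_comm, H.index_mul_card, pow_card_eq_one']
    exact hD.not_dvd_index hq hqπ (hdvd.trans this)
  have ha : n ^ H.index ∈ H := by
    let f := QuotientGroup.mk' (H.subgroupOf N)
    let a : N := ⟨n ^ H.index, pow_mem hn _⟩
    have h1 : orderOf (f a) ∣ Nat.card H := by
      refine (orderOf_map_dvd f a).trans ?_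
      rw [← Subgroup.orderOf_coe, orderOf_dvd_iff_pow_eq_one]
      show (n ^ H.index) ^ Nat.card H = 1
      rw [← pow_mul, H.index_mul_card, pow_card_eq_one']
    have h2 : orderOf (f a) ∣ H.index := by
      refine (_root_.orderOf_dvd_natCard _).trans ?_
      rw [← index_eq_card]
      exact ⟨N.index, (relIndex_mul_index (le_normalizer : H ≤ N)).symm⟩
    have h3 : f a = 1 := orderOf_eq_one_iff.mp (Nat.eq_one_of_dvd_coprimes hD.coprime h1 h2)
    exact mem_subgroupOf.mp ((QuotientGroup.eq_one_iff a).mp h3)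
  have hbez : (1 : ℤ) = (Nat.card H : ℤ) * Nat.gcdA (Nat.card H) H.index
      + (H.index : ℤ) * Nat.gcdB (Nat.card H) H.index := by
    rw [← Nat.gcd_eq_gcd_ab, hD.coprime.gcd_eq_one, Nat.cast_one]
  refine ⟨(n ^ H.index) ^ Nat.gcdB (Nat.card H) H.index, zpow_mem ha _,
    (n ^ Nat.card H) ^ Nat.gcdA (Nat.card H) H.index, zpow_mem hb _, ?_⟩
  rw [← zpow_natCast n, ← zpow_natCast n, ← zpow_mul, ← zpow_mul, ← zpow_add, add_comm, ← hbez,
    zpow_one]

/-- A `π`-supplement to `C(Q)` in `N(Q)` containing a Sylow subgroup that contains a given one. -/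
theorem exists_supplement (hh : Hom π G) {p : ℕ} [Fact p.Prime] (hp : p ∈ π) {Q R : Subgroup G}
    (hQ : IsPGroup p Q) (hR : IsPGroup p R) (hRN : R ≤ Subgroup.normalizer (Q : Set G)) :
    ∃ K : Subgroup G, PiNum π (Nat.card K) ∧ R ≤ K ∧ K ≤ Subgroup.normalizer (Q : Set G) ∧
      (∀ n ∈ Subgroup.normalizer (Q : Set G), ∃ c ∈ Subgroup.centralizer (Q : Set G),
        ∃ k ∈ K, n = c * k) ∧
      ∃ S : Subgroup G, S ≤ K ∧ ∀ T : Subgroup G, IsPGroup p T →
        T ≤ Subgroup.normalizer (Q : Set G) →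
        ∃ m ∈ Subgroup.normalizer (Q : Set G), T ≤ cj m S := by
  set N := Subgroup.normalizer (Q : Set G) with hN
  obtain ⟨S, hS⟩ := (hR.comap_subtype : IsPGroup p (R.subgroupOf N)).exists_le_sylow
  have hCn : ((Subgroup.centralizer (Q : Set G)).subgroupOf N).Normal := by
    constructor
    intro c hc g
    rw [mem_subgroupOf, Subgroup.mem_centralizer_iff] at hc ⊢
    intro q hq
    have hq' : (g : G)⁻¹ * q * g ∈ Q := by
      have := (Subgroup.mem_normalizer_iff.mp g.2 ((g : G)⁻¹ * q * g)).mpr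
      exact this (by simpa [mul_assoc] using hq)
    have := hc _ hq'
    simp only [Subgroup.coe_mul, InvMemClass.coe_inv]
    calc q * ((g : G) * c * (g : G)⁻¹) = (g : G) * ((g : G)⁻¹ * q * g * c) * (g : G)⁻¹ := by group
      _ = (g : G) * (c * ((g : G)⁻¹ * q * g)) * (g : G)⁻¹ := by rw [this]
      _ = (g : G) * c * (g : G)⁻¹ * q := by group
  obtain ⟨K, hK, hSK, hCK⟩ := exists_pi_supplement π hp hCn (fun g hg =>
    mem_subgroupOf.mpr (hh Q (piNum_of_isPGroup hp hQ) g g.2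
      (by rwa [Subgroup.orderOf_coe]))) S
  refine ⟨K.map N.subtype, by rwa [card_map_of_injective N.subtype_injective], ?_,
    map_subtype_le K, ?_, (S : Subgroup N).map N.subtype, map_mono hSK, ?_⟩
  · intro r hr
    exact ⟨⟨r, hRN hr⟩, hSK (hS (mem_subgroupOf.mpr hr)), rfl⟩
  · intro n hn
    haveI := hCn
    have : (⟨n, hn⟩ : N) ∈ ((Subgroup.centralizer (Q : Set G)).subgroupOf N ⊔ K) :=
      hCK ▸ mem_top _
    rw [Subgroup.mem_sup_of_normal_left] at this
    obtain ⟨c, hc, k, hk, he⟩ := this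
    exact ⟨c, mem_subgroupOf.mp hc, k, mem_map_of_mem _ hk, (congrArg Subtype.val he).symm⟩
  · intro T hT hTN
    obtain ⟨S', hS'⟩ := (hT.comap_subtype : IsPGroup p (T.subgroupOf N)).exists_le_sylow
    obtain ⟨m, hm⟩ := MulAction.exists_smul_eq N S S'
    refine ⟨m, m.2, fun t ht => ?_⟩
    have h1 : (⟨t, hTN ht⟩ : N) ∈ (S' : Subgroup N) := hS' (mem_subgroupOf.mpr ht)
    rw [← hm, Sylow.coe_subgroup_smul] at h1
    obtain ⟨w, hw, he⟩ := h1
    exact ⟨w, mem_map_of_mem _ hw, congrArg Subtype.val he⟩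

theorem conj_mem_centralizer {Q : Subgroup G} {n c : G}
    (hn : n ∈ Subgroup.normalizer (Q : Set G)) (hc : c ∈ Subgroup.centralizer (Q : Set G)) :
    n * c * n⁻¹ ∈ Subgroup.centralizer (Q : Set G) := by
  rw [Subgroup.mem_centralizer_iff] at hc ⊢
  intro q hq
  have hq' : n⁻¹ * q * n ∈ Q :=
    (Subgroup.mem_normalizer_iff.mp hn (n⁻¹ * q * n)).mpr (by simpa [mul_assoc] using hq)
  have := hc _ hq'
  calc q * (n * c * n⁻¹) = n * (n⁻¹ * q * n * c) * n⁻¹ := by group
    _ = n * (c * (n⁻¹ * q * n)) * n⁻¹ := by rw [this]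
    _ = n * c * n⁻¹ * q := by group

/-- Move a supplement into `H`. -/
theorem adjust {p : ℕ} {Q K : Subgroup G} {c : G} (hc : c ∈ Subgroup.centralizer (Q : Set G))
    (hKc : K ≤ cj c H) (hKN : K ≤ Subgroup.normalizer (Q : Set G))
    (hdec : ∀ n ∈ Subgroup.normalizer (Q : Set G), ∃ a ∈ Subgroup.centralizer (Q : Set G),
      ∃ k ∈ K, n = a * k)
    (hS : ∃ S : Subgroup G, S ≤ K ∧ ∀ T : Subgroup G, IsPGroup p T →
      T ≤ Subgroup.normalizer (Q : Set G) →
      ∃ m ∈ Subgroup.normalizer (Q : Set G), T ≤ cj m S) :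
    ∃ K0 : Subgroup G, K0 ≤ H ∧ K0 ≤ Subgroup.normalizer (Q : Set G) ∧
      (∀ n ∈ Subgroup.normalizer (Q : Set G), ∃ a ∈ Subgroup.centralizer (Q : Set G),
        ∃ k ∈ K0, n = a * k) ∧
      ∃ S : Subgroup G, S ≤ K0 ∧ ∀ T : Subgroup G, IsPGroup p T →
        T ≤ Subgroup.normalizer (Q : Set G) →
        ∃ m ∈ Subgroup.normalizer (Q : Set G), T ≤ cj m S := by
  have hcN : c ∈ Subgroup.normalizer (Q : Set G) := centralizer_le_normalizer _ hc
  obtain ⟨S, hSK, hSmax⟩ := hS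
  refine ⟨cj c⁻¹ K, ?_, ?_, ?_, cj c⁻¹ S, cj_mono hSK, ?_⟩
  · have := cj_mono (x := c⁻¹) hKc
    rwa [cj_inv_cj] at this
  · rintro _ ⟨k, hk, rfl⟩
    exact mul_mem (mul_mem (inv_mem hcN) (hKN hk)) (inv_mem (inv_mem hcN))
  · intro n hn
    obtain ⟨a, ha, k, hk, rfl⟩ := hdec n hn
    have hk' : c⁻¹ * k * c ∈ cj c⁻¹ K := by rw [mem_cj]; simpa [mul_assoc] using hk
    refine ⟨a * (k * (c⁻¹ * k * c)⁻¹), mul_mem ha ?_, _, hk', by group⟩
    have h1 := conj_mem_centralizer (hKN hk) (inv_mem hc)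
    rw [show k * (c⁻¹ * k * c)⁻¹ = (k * c⁻¹ * k⁻¹) * c by group]
    exact mul_mem h1 hc
  · intro T hT hTN
    obtain ⟨m, hm, hTm⟩ := hSmax T hT hTN
    exact ⟨m * c, mul_mem hm hcN, by rwa [← cj_mul, mul_assoc, mul_inv_cancel, mul_one]⟩

/-- `|A ⊔ B|` divides `|A| * |B|` when `A` normalises `B`. -/
theorem card_sup_dvd {A B : Subgroup G} (h : A ≤ Subgroup.normalizer (B : Set G)) :
    Nat.card ↥(A ⊔ B) ∣ Nat.card A * Nat.card B := by
  have h1 : B ≤ A ⊔ B := le_sup_right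
  have hN : A ⊔ B ≤ Subgroup.normalizer (B : Set G) := sup_le h le_normalizer
  haveI : (B.subgroupOf (A ⊔ B)).Normal := normal_subgroupOf_of_le_normalizer hN
  have h2 : (A.subgroupOf (A ⊔ B)) ⊔ (B.subgroupOf (A ⊔ B)) = ⊤ := by
    rw [← subgroupOf_sup le_sup_left h1, subgroupOf_self]
  have h3 := relIndex_sup_right (H := A.subgroupOf (A ⊔ B)) (K := B.subgroupOf (A ⊔ B))
  rw [h2, relIndex_top_right] at h3
  rw [← (B.subgroupOf (A ⊔ B)).index_mul_card, h3,
    Nat.card_congr (subgroupOfEquivOfLe h1).toEquiv]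
  refine mul_dvd_mul_right ((relIndex_dvd_card _ _).trans ?_) _
  rw [Nat.card_congr (subgroupOfEquivOfLe (le_sup_left : A ≤ A ⊔ B)).toEquiv]

theorem exists_bigger {p : ℕ} [Fact p.Prime] {Q P : Subgroup G} (hP : IsPGroup p P) (hQP : Q < P) :
    ∃ R : Subgroup G, Q < R ∧ R ≤ P ∧ R ≤ Subgroup.normalizer (Q : Set G) := by
  haveI : Group.IsNilpotent P := hP.isNilpotent
  have hlt : Q.subgroupOf P < ⊤ := by
    rw [lt_top_iff_ne_top]
    intro h
    exact hQP.not_ge (subgroupOf_eq_top.mp h)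
  have h2 := Group.normalizerCondition_of_isNilpotent _ hlt
  obtain ⟨g, hg, hg'⟩ := SetLike.exists_of_lt h2
  refine ⟨(Subgroup.normalizer ((Q.subgroupOf P : Subgroup P) : Set P)).map P.subtype, ?_,
    map_subtype_le _, ?_⟩
  · refine SetLike.lt_iff_le_and_exists.mpr ⟨fun q hq => ?_, (g : G), mem_map_of_mem P.subtype hg, fun hgQ => ?_⟩
    · exact ⟨⟨q, hQP.le hq⟩, le_normalizer (mem_subgroupOf.mpr hq), rfl⟩
    · exact hg' (mem_subgroupOf.mpr hgQ)
  · rintro _ ⟨r, hr, rfl⟩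
    refine Subgroup.mem_normalizer_iff.mpr fun q => ?_
    constructor
    · intro hq
      have := (Subgroup.mem_normalizer_iff.mp hr ⟨q, hQP.le hq⟩).mp (mem_subgroupOf.mpr hq)
      exact mem_subgroupOf.mp this
    · intro hq
      have hqP : q ∈ P := by
        have := P.mul_mem (P.mul_mem (P.inv_mem r.2) (hQP.le hq)) r.2
        simpa [mul_assoc] using this
      have := (Subgroup.mem_normalizer_iff.mp hr ⟨q, hqP⟩).mpr (mem_subgroupOf.mpr hq)
      exact mem_subgroupOf.mp this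

/-- The conjugates of `H` containing a `p`-subgroup are conjugate under its centraliser. -/
theorem trans_pSubgroup (hh : Hom π G) (hD : Dom π H) {p : ℕ} [Fact p.Prime] (hp : p ∈ π) :
    ∀ (d : ℕ) (Q : Subgroup G), Nat.card H - Nat.card Q = d → IsPGroup p Q → Q ≤ H →
      ∀ x : G, Q ≤ cj x H → ∃ c ∈ Subgroup.centralizer (Q : Set G), cj x H = cj c H := by
  intro d
  induction d using Nat.strong_induction_on with
  | _ d ih =>
  intro Q hd hQ hQH x hQx
  set N := Subgroup.normalizer (Q : Set G) with hN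
  set Q' := cj x⁻¹ Q with hQ'
  have hQ'H : Q' ≤ H := by
    have := cj_mono (x := x⁻¹) hQx
    rwa [cj_inv_cj] at this
  have hQ'p : IsPGroup p Q' := hQ.map _
  have hxQ' : cj x Q' = Q := by rw [hQ', ← cj_mul, mul_inv_cancel, cj_one]
  obtain ⟨P, hP⟩ := (hQ.comap_subtype : IsPGroup p (Q.subgroupOf H)).exists_le_sylow
  obtain ⟨P', hP'⟩ := (hQ'p.comap_subtype : IsPGroup p (Q'.subgroupOf H)).exists_le_sylow
  set P1 := (P : Subgroup H).map H.subtype with hP1
  set P1' := (P' : Subgroup H).map H.subtype with hP1'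
  have hQP : Q ≤ P1 := fun q hq => ⟨⟨q, hQH hq⟩, hP (mem_subgroupOf.mpr hq), rfl⟩
  have hQP' : Q' ≤ P1' := fun q hq => ⟨⟨q, hQ'H hq⟩, hP' (mem_subgroupOf.mpr hq), rfl⟩
  obtain ⟨t, ht⟩ := MulAction.exists_smul_eq H P P'
  have ht' : P1' = cj (t : G) P1 := by
    rw [hP1', ← ht, Sylow.coe_subgroup_smul, hP1, cj]
    ext z
    simp only [Subgroup.mem_map, Subgroup.mem_pointwise_smul_iff_inv_smul_mem]
    constructor
    · rintro ⟨w, hw, rfl⟩
      exact ⟨_, ⟨_, hw, rfl⟩, by simp [mul_assoc]⟩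
    · rintro ⟨_, ⟨w, hw, rfl⟩, rfl⟩
      exact ⟨t * w * t⁻¹, by simpa [mul_assoc] using hw, by simp⟩
  by_cases hmax : P1 ≤ Q
  · -- `Q` is a Sylow subgroup of `H`
    have hQeq : Q = P1 := le_antisymm hQP hmax
    have hQ'eq : Q' = P1' := by
      refine Subgroup.eq_of_le_of_card_ge hQP' ?_
      rw [ht', card_cj, ← hQeq, hQ', card_cj]
    have hn : x * t ∈ N := by
      refine mem_normalizer_of_cj_eq ?_
      rw [cj_mul]
      conv_lhs => rw [hQeq, ← ht', ← hQ'eq, hxQ']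
    obtain ⟨K, hK, hQK, hKN, hdec, S, hSK, hSmax⟩ := exists_supplement hh hp hQ hQ le_normalizer
    obtain ⟨x0, hx0⟩ := hD.le_cj K hK
    -- adjust `x0` to normalise `Q`
    have hQ0 : cj x0⁻¹ Q ≤ H := by
      have := cj_mono (x := x0⁻¹) (hQK.trans hx0)
      rwa [cj_inv_cj] at this
    obtain ⟨P0, hP0⟩ := ((hQ.map (MulAut.conj x0⁻¹).toMonoidHom).comap_subtype :
      IsPGroup p ((cj x0⁻¹ Q).subgroupOf H)).exists_le_sylow
    obtain ⟨s, hs⟩ := MulAction.exists_smul_eq H P P0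
    have hP0eq : cj x0⁻¹ Q = cj (s : G) Q := by
      refine Subgroup.eq_of_le_of_card_ge ?_ (by rw [card_cj, card_cj])
      intro q hq
      have h1 : (⟨q, hQ0 hq⟩ : H) ∈ (P0 : Subgroup H) := hP0 (mem_subgroupOf.mpr hq)
      rw [← hs, Sylow.coe_subgroup_smul] at h1
      obtain ⟨w, hw, he⟩ := h1
      rw [hQeq]
      exact ⟨w, mem_map_of_mem _ hw, congrArg Subtype.val he⟩
    have hn0 : x0 * s ∈ N := by
      refine mem_normalizer_of_cj_eq ?_
      rw [cj_mul, ← hP0eq, ← cj_mul, mul_inv_cancel, cj_one]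
    obtain ⟨c0, hc0, k0, hk0, he0⟩ := hdec _ hn0
    have hc' : k0⁻¹ * c0 * k0 ∈ Subgroup.centralizer (Q : Set G) :=
      by simpa using conj_mem_centralizer (inv_mem (hKN hk0)) hc0
    have hKc : K ≤ cj (k0⁻¹ * c0 * k0) H := by
      have h1 : cj x0 H = cj (k0 * (k0⁻¹ * c0 * k0)) H := by
        rw [show k0 * (k0⁻¹ * c0 * k0) = x0 * s by rw [he0]; group, cj_mul, cj_of_mem s.2]
      rw [h1, cj_mul] at hx0
      have := cj_mono (x := k0⁻¹) hx0
      rwa [cj_inv_cj, cj_of_mem (inv_mem hk0)] at this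
    obtain ⟨K0, hK0H, -, hdec0, -⟩ := adjust hc' hKc hKN hdec ⟨S, hSK, hSmax⟩
    obtain ⟨c2, hc2, k2, hk2, he2⟩ := hdec0 _ hn
    refine ⟨c2, hc2, ?_⟩
    calc cj x H = cj (x * t) H := by rw [cj_mul, cj_of_mem t.2]
      _ = cj c2 H := by rw [he2, cj_mul, cj_of_mem (hK0H hk2)]
  · -- inductive step
    have hlt : Q < P1 := lt_of_le_not_ge hQP hmax
    have hlt' : Q' < P1' := by
      refine lt_of_le_not_ge hQP' fun h => hmax ?_
      have h1 : Nat.card P1' ≤ Nat.card Q' := card_le_of_le h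
      rw [ht', card_cj, hQ', card_cj] at h1
      exact (Subgroup.eq_of_le_of_card_ge hQP h1).ge
    obtain ⟨R, hQR, hRP, hRN⟩ := exists_bigger (P.isPGroup'.map H.subtype) hlt
    obtain ⟨R', hQR', hRP', hRN'⟩ := exists_bigger (P'.isPGroup'.map H.subtype) hlt'
    have hRp : IsPGroup p R := (P.isPGroup'.map H.subtype).to_le hRP
    have hR'p : IsPGroup p R' := (P'.isPGroup'.map H.subtype).to_le hRP'
    have hRH : R ≤ H := hRP.trans (map_subtype_le _)
    have hR'H : R' ≤ H := hRP'.trans (map_subtype_le _)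
    have bound : ∀ A B : Subgroup G, A < B → B ≤ H →
        Nat.card H - Nat.card B < Nat.card H - Nat.card A := by
      intro A B hAB hBH
      have h1 : Nat.card A < Nat.card B := lt_of_le_of_ne (card_le_of_le hAB.le)
        fun e => hAB.ne (Subgroup.eq_of_le_of_card_ge hAB.le e.ge)
      have h2 : Nat.card B ≤ Nat.card H := card_le_of_le hBH
      omega
    have hcardQ' : Nat.card Q' = Nat.card Q := card_cj _ _
    obtain ⟨K, hK, hRK, hKN, hdec, S, hSK, hSmax⟩ := exists_supplement hh hp hQ hRp hRN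
    obtain ⟨x0, hx0⟩ := hD.le_cj K hK
    obtain ⟨c, hc, hcx⟩ := ih _ (hd ▸ bound Q R hQR hRH) R rfl hRp hRH x0 (hRK.trans hx0)
    have hcQ : c ∈ Subgroup.centralizer (Q : Set G) :=
      Subgroup.centralizer_le (show (Q : Set G) ⊆ R from hQR.le) hc
    obtain ⟨K0, hK0H, hK0N, hdec0, S0, hS0K, hS0max⟩ :=
      adjust hcQ (hcx ▸ hx0) hKN hdec ⟨S, hSK, hSmax⟩
    -- move `R'` into `N(Q)`
    have hTN : cj x R' ≤ N := by
      rintro _ ⟨r, hr, rfl⟩
      refine mem_normalizer_of_cj_eq ?_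
      simp only [MulEquiv.coe_toMonoidHom, MulAut.conj_apply]
      rw [cj_mul, cj_mul, show cj x⁻¹ Q = Q' from rfl,
        cj_eq_of_mem_normalizer (hRN' hr), hxQ']
    obtain ⟨m, hm, hTm⟩ := hS0max (cj x R') (hR'p.map _) hTN
    obtain ⟨c1, hc1, k1, hk1, hme⟩ := hdec0 m hm
    have hTc : cj x R' ≤ cj c1 H := by
      refine hTm.trans ((cj_mono (hS0K.trans hK0H)).trans ?_)
      rw [hme, cj_mul, cj_of_mem (hK0H hk1)]
    set y := c1⁻¹ * x with hy
    have hyR : R' ≤ cj y⁻¹ H := by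
      have h1 := cj_mono (x := x⁻¹) hTc
      rw [cj_inv_cj, ← cj_mul] at h1
      rwa [show y⁻¹ = x⁻¹ * c1 by rw [hy]; group]
    obtain ⟨e, he, hey⟩ := ih _ (by rw [← hd, ← hcardQ']; exact bound Q' R' hQR' hR'H) R' rfl
      hR'p hR'H y⁻¹ hyR
    have hye : cj (y * e) H = H := by
      rw [cj_mul, ← hey, ← cj_mul, mul_inv_cancel, cj_one]
    obtain ⟨h, hhH, z, hz, hhz⟩ := hD.normalizer_decomp hh (mem_normalizer_of_cj_eq hye)
    refine ⟨c1 * (h * z * e⁻¹ * (h * z)⁻¹), ?_, ?_⟩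
    · rw [Subgroup.mem_centralizer_iff]
      intro q hq
      have hq' : x⁻¹ * q * x ∈ R' := hQR'.le (by rw [hQ', mem_cj]; simpa [mul_assoc] using hq)
      have he' := Subgroup.mem_centralizer_iff.mp he _ hq'
      have hc1' := Subgroup.mem_centralizer_iff.mp hc1 q hq
      have hconj : (h * z) * (x⁻¹ * q * x) * (h * z)⁻¹ = q := by
        rw [← hhz]
        calc y * e * (x⁻¹ * q * x) * (y * e)⁻¹ = y * (e * (x⁻¹ * q * x)) * e⁻¹ * y⁻¹ := by group
          _ = y * ((x⁻¹ * q * x) * e) * e⁻¹ * y⁻¹ := by rw [he']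
          _ = c1⁻¹ * (q * c1) := by rw [hy]; group
          _ = c1⁻¹ * (c1 * q) := by rw [hc1']
          _ = q := by group
      generalize hg : h * z = g at hconj ⊢
      have hce : Commute (g * e⁻¹ * g⁻¹) q := by
        rw [← hconj]
        exact ((show Commute e⁻¹ (x⁻¹ * q * x) from (show Commute e (x⁻¹ * q * x) from he'.symm).inv_left)).map
          (MulAut.conj g).toMonoidHom
      calc q * (c1 * (g * e⁻¹ * g⁻¹)) = (q * c1) * (g * e⁻¹ * g⁻¹) := by group
        _ = c1 * (q * (g * e⁻¹ * g⁻¹)) := by rw [hc1']; group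
        _ = c1 * ((g * e⁻¹ * g⁻¹) * q) := by rw [hce.eq]
        _ = c1 * (g * e⁻¹ * g⁻¹) * q := by group
    · have h3 : cj (h * z)⁻¹ H = H :=
        cj_eq_of_mem_normalizer (inv_mem (hhz ▸ mem_normalizer_of_cj_eq hye))
      rw [← mul_assoc, cj_mul (c1 * (h * z * e⁻¹)) _ H, h3, ← hhz,
        show c1 * (y * e * e⁻¹) = x by rw [hy]; group]

/-- The conjugates of `H` containing an element of `H` are conjugate under its centraliser. -/
theorem trans_element : ∀ (n : ℕ) (G : Type u) [Group G] [Finite G] (H : Subgroup G), Hom π G →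
    Dom π H → ∀ a ∈ H, orderOf a = n → ∀ x : G, a ∈ cj x H →
      ∃ c : G, Commute c a ∧ cj x H = cj c H := by
  intro n
  induction n using Nat.strong_induction_on with
  | _ n ih =>
  intro G _ _ H hh hD a ha hn x hax
  rcases eq_or_ne n 1 with h1 | h1
  · rw [h1, orderOf_eq_one_iff] at hn
    exact ⟨x, hn ▸ Commute.one_right x, rfl⟩
  obtain ⟨p, hp, hpn⟩ := Nat.exists_prime_and_dvd h1
  haveI : Fact p.Prime := ⟨hp⟩
  have hpπ : p ∈ π := hD.piNum p hp (hpn.trans (hn ▸ H.orderOf_dvd_natCard ha))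
  have hn0 : 0 < n := hn ▸ orderOf_pos a
  obtain ⟨k, m, hm, hkm⟩ := Nat.exists_eq_pow_mul_and_not_dvd hn0.ne' p hp.ne_one
  have hm0 : 0 < m := Nat.pos_of_ne_zero fun e => hm (e ▸ dvd_zero p)
  set ap := a ^ m with hap
  have hapP : IsPGroup p (zpowers ap) := by
    refine IsPGroup.of_card (n := k) ?_
    rw [Nat.card_zpowers, hap, orderOf_pow_of_dvd hm0.ne' (hn ▸ hkm ▸ Dvd.intro_left _ rfl), hn,
      hkm, Nat.mul_div_cancel _ hm0]
  obtain ⟨c, hc, hcx⟩ := trans_pSubgroup hh hD hpπ _ (zpowers ap) rfl hapP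
    (zpowers_le.mpr (pow_mem ha m)) x (zpowers_le.mpr (pow_mem hax m))
  set M := Subgroup.centralizer ({ap} : Set G) with hM
  have hcM : c ∈ M := Subgroup.mem_centralizer_singleton_iff.mpr
    (Subgroup.mem_centralizer_iff.mp hc ap (mem_zpowers ap)).symm
  have memM : ∀ g : G, g ∈ M ↔ g * ap = ap * g := fun g => Subgroup.mem_centralizer_singleton_iff
  have hhM : Hom π M := by
    intro L hL g hg hgπ
    rw [Subgroup.mem_centralizer_iff]
    intro l hl
    have hgN : (g : G) ∈ Subgroup.normalizer ((L.map M.subtype : Subgroup G) : Set G) := by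
      have := Subgroup.mem_map_of_mem M.subtype hg
      exact Subgroup.le_normalizer_map M.subtype this
    have := Subgroup.mem_centralizer_iff.mp (hh (L.map M.subtype)
      (by rwa [card_map_of_injective M.subtype_injective]) g hgN
      (by rwa [Subgroup.orderOf_coe])) (l : G) (mem_map_of_mem _ hl)
    exact Subtype.ext this
  have hdomM : Dom π (H.subgroupOf M) := by
    constructor
    · intro q hq hdvd
      refine hD.piNum q hq (hdvd.trans ?_)
      rw [← card_map_of_injective M.subtype_injective]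
      exact card_dvd_of_le (map_le_iff_le_comap.mpr le_rfl)
    · intro L hL
      set L' := L.map M.subtype with hL'
      set A := zpowers ap with hA
      have hAπ : PiNum π (Nat.card A) := piNum_of_isPGroup hpπ hapP
      have hLA : L' ≤ Subgroup.normalizer (A : Set G) := by
        rintro _ ⟨l, -, rfl⟩
        refine centralizer_le_normalizer _ ?_
        rw [Subgroup.mem_centralizer_iff]
        intro y hy
        obtain ⟨i, rfl⟩ := hy
        exact ((show Commute (l : G) ap from (memM _).mp l.2).zpow_right i).symm.eq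
      have hsup : PiNum π (Nat.card ↥(L' ⊔ A)) := by
        intro q hq hdvd
        have hdiv : Nat.card ↥(L' ⊔ A) ∣ Nat.card L' * Nat.card A := card_sup_dvd hLA
        rcases hq.dvd_mul.mp (hdvd.trans hdiv) with h | h
        · rw [hL', card_map_of_injective M.subtype_injective] at h
          exact hL q hq h
        · exact hAπ q hq h
      obtain ⟨x', hx'⟩ := hD.le_cj _ hsup
      obtain ⟨c', hc', hcx'⟩ := trans_pSubgroup hh hD hpπ _ A rfl hapP
        (zpowers_le.mpr (pow_mem ha m)) x' (le_sup_right.trans hx')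
      have hc'M : c' ∈ M := (memM _).mpr
        (Subgroup.mem_centralizer_iff.mp hc' ap (mem_zpowers ap)).symm
      refine ⟨⟨c', hc'M⟩, fun l hl => ?_⟩
      have := hcx' ▸ hx' (le_sup_left (b := A) (mem_map_of_mem M.subtype hl))
      rw [mem_cj] at this ⊢
      exact mem_subgroupOf.mpr this
  set a' : M := ⟨a ^ (p ^ k), (memM _).mpr (((Commute.refl a).pow_pow _ _).eq)⟩ with ha'
  have ha'U : a' ∈ H.subgroupOf M := mem_subgroupOf.mpr (pow_mem ha _)
  have hlt : orderOf a' < n := by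
    rw [← Subgroup.orderOf_coe, show (a' : G) = a ^ (p ^ k) from rfl,
      orderOf_pow_of_dvd (pow_ne_zero k hp.ne_zero) (hn ▸ hkm ▸ Dvd.intro _ rfl), hn, hkm,
      Nat.mul_div_cancel_left _ (pow_pos hp.pos k)]
    refine lt_mul_of_one_lt_left hm0 ?_
    refine Nat.one_lt_pow ?_ hp.one_lt
    rintro rfl
    exact hm (by rwa [hkm, pow_zero, one_mul] at hpn)
  have ha'x : a' ∈ cj (⟨c, hcM⟩ : M) (H.subgroupOf M) := by
    have h2 : a ^ (p ^ k) ∈ cj c H := hcx ▸ pow_mem hax _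
    rw [mem_cj] at h2 ⊢
    exact mem_subgroupOf.mpr h2
  obtain ⟨e, he, hey⟩ := ih _ hlt M (H.subgroupOf M) hhM hdomM a' ha'U rfl ⟨c, hcM⟩ ha'x
  have hw : cj (e⁻¹ * ⟨c, hcM⟩) (H.subgroupOf M) = H.subgroupOf M := by
    rw [cj_mul, hey, cj_inv_cj]
  obtain ⟨u, hu, z, hz, huz⟩ := hdomM.normalizer_decomp hhM (mem_normalizer_of_cj_eq hw)
  have hzu : (z : M) * u = u * z := (Subgroup.mem_centralizer_iff.mp hz u hu).symm
  have hcez : c = (e : G) * z * u := by
    have : (⟨c, hcM⟩ : M) = e * (z * u) := by rw [hzu, ← huz]; group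
    simpa [mul_assoc] using congrArg Subtype.val this
  refine ⟨(e : G) * z, ?_, ?_⟩
  · have h1 : Commute ((e : G) * z) ap := (show Commute (e : G) ap from (memM _).mp e.2).mul_left
      ((memM _).mp z.2)
    have h2 : Commute ((e : G) * z) (a ^ (p ^ k)) :=
      (he.map M.subtype).mul_left
        ((show Commute (z : M) a' from (Subgroup.mem_centralizer_iff.mp hz a' ha'U).symm).map M.subtype)
    have hbez : (1 : ℤ) = ((p ^ k : ℕ) : ℤ) * Nat.gcdA (p ^ k) m + (m : ℤ) * Nat.gcdB (p ^ k) m := by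
      rw [← Nat.gcd_eq_gcd_ab,
        (Nat.Coprime.pow_left k ((hp.coprime_iff_not_dvd).mpr hm)).gcd_eq_one, Nat.cast_one]
    have : a = (a ^ (p ^ k)) ^ Nat.gcdA (p ^ k) m * ap ^ Nat.gcdB (p ^ k) m := by
      rw [hap, ← zpow_natCast a, ← zpow_natCast a, ← zpow_mul, ← zpow_mul, ← zpow_add, ← hbez,
        zpow_one]
    rw [this]
    exact (h2.zpow_right _).mul_right (h1.zpow_right _)
  · rw [hcx, hcez, cj_mul _ (u : G), cj_of_mem (mem_subgroupOf.mp hu)]

/-- `H` controls the fusion of its elements. -/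
theorem fusion (hh : Hom π G) (hD : Dom π H) {a b : G} (ha : a ∈ H) (hb : b ∈ H)
    (hab : IsConj a b) : ∃ h ∈ H, h * a * h⁻¹ = b := by
  obtain ⟨g, hg⟩ := isConj_iff.mp hab
  have hmem : a ∈ cj g⁻¹ H := by rw [mem_cj, inv_inv, hg]; exact hb
  obtain ⟨c, hc, hcg⟩ := trans_element _ G H hh hD a ha rfl g⁻¹ hmem
  have h1 : cj (g * c) H = H := by rw [cj_mul, ← hcg, ← cj_mul, mul_inv_cancel, cj_one]
  obtain ⟨h, hh', z, hz, hhz⟩ := hD.normalizer_decomp hh (mem_normalizer_of_cj_eq h1)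
  have hza := Subgroup.mem_centralizer_iff.mp hz a ha
  refine ⟨h, hh', ?_⟩
  calc h * a * h⁻¹ = h * (a * z) * (h * z)⁻¹ := by group
    _ = h * (z * a) * (h * z)⁻¹ := by rw [hza]
    _ = (h * z) * a * (h * z)⁻¹ := by group
    _ = g * (c * a) * c⁻¹ * g⁻¹ := by rw [← hhz]; group
    _ = g * (a * c) * c⁻¹ * g⁻¹ := by rw [hc.eq]
    _ = b := by rw [← hg]; group

end Cfsg.Agent.Lib.BC77.DPiHom
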